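import Cfsg.Agent.H888.L34.Model
import Cfsg.Agent.H20.LF.Glue

/-!
# S5917: `|H|` divides `12 · 20160` in the situation `Sit` (helper105)
-/

set_option autoImplicit false

universe u

namespace Cfsg.Agent.H105.L34

open Subgroup Cfsg
open Cfsg.Agent.H793.RIM Cfsg.Agent.H20.LF
open Cfsg.Agent.H939.L64
open Cfsg.Agent.H888.L34.Model (Sit P3)

theorem card_aut {F : Type} [Field F] [Fintype F] (hF : Fintype.card F = 4) :
    Nat.card (MulAut (P3 F)) ∣ 12 * 20160 := by
  have hB : B34 (P3 F) := b34_psl hF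
  have hna := na_of_b34 hB
  have := hB.finite
  have := hB.simple
  have hI : (MulAut.conj : P3 F →* MulAut (P3 F)).range.index = 12 :=
    Cfsg.Agent.H199.RIM.idx_l34 hna hF (MulEquiv.refl _)
  have h1 : Nat.card (MulAut.conj : P3 F →* MulAut (P3 F)).range ∣ Nat.card (P3 F) := Subgroup.card_range_dvd _
  rw [hB.card] at h1
  rw [← Subgroup.card_mul_index (MulAut.conj : P3 F →* MulAut (P3 F)).range, hI, mul_comm]
  exact mul_dvd_mul_left 12 h1

variable {F : Type} [Field F] {H : Subgroup E2} {f : P3 F →* E2}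

/-- **the order of `H`** -/
theorem card_dvd [Fintype F] (S : Sit H f) (hF : Fintype.card F = 4) : Nat.card H ∣ 12 * 20160 := by
  classical
  have hc : ∀ h : H, ∀ s, f ((S.nor h.1 h.2).choose s) = h.1 * f s * (h.1)⁻¹ := fun h => (S.nor h.1 h.2).choose_spec
  let Θ : H →* MulAut (P3 F) := MonoidHom.mk' (fun h => (S.nor h.1 h.2).choose) (by
    intro a b
    ext s
    apply S.inj
    rw [MulAut.mul_apply, hc, hc, hc, Subgroup.coe_mul]
    group)
  have hΘ : ∀ h : H, ∀ s, f (Θ h s) = h.1 * f s * (h.1)⁻¹ := hc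
  have hinj : Function.Injective Θ := by
    rw [injective_iff_map_eq_one]
    intro h h1
    apply Subtype.ext
    refine S.tri h.1 h.2 fun s => ?_
    have h2 := hΘ h s
    rw [h1, MulAut.one_apply] at h2
    show h.1 * f s = f s * h.1
    calc h.1 * f s = h.1 * f s * (h.1)⁻¹ * h.1 := by rw [inv_mul_cancel_right]
      _ = f s * h.1 := by rw [← h2]
  have hB : B34 (P3 F) := b34_psl hF
  have := hB.finite
  exact (Subgroup.card_dvd_of_injective Θ hinj).trans (card_aut hF)

theorem no13 [Fintype F] (S : Sit H f) (hF : Fintype.card F = 4) {g : E2} (hg : g ∈ H) : orderOf g ≠ 13 := by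
  intro h
  have h1 : orderOf (⟨g, hg⟩ : H) ∣ Nat.card H := orderOf_dvd_natCard _
  rw [Subgroup.orderOf_mk, h] at h1
  have h2 := h1.trans (card_dvd S hF)
  norm_num at h2

theorem no49 [Fintype F] (S : Sit H f) (hF : Fintype.card F = 4) : ¬ 49 ∣ Nat.card H := by
  intro h
  have h2 := h.trans (card_dvd S hF)
  norm_num at h2

theorem no25 [Fintype F] (S : Sit H f) (hF : Fintype.card F = 4) : ¬ 25 ∣ Nat.card H := by
  intro h
  have h2 := h.trans (card_dvd S hF)
  norm_num at h2

end Cfsg.Agent.H105.L34
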