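import Cfsg.Agent.H482.LF.SimpB
import Cfsg.Agent.H592.L34.ExistsNine

/-!
# S5917: the common fixed space has dimension at most four (helper105)
-/

set_option autoImplicit false

namespace Cfsg.Agent.H105.L34

open Cfsg.Agent.H691.L34 Module

variable {F : Type} [Field F] [Fintype F] {V : Type} [AddCommGroup V] [Module (ZMod 2) V] [Module.Finite (ZMod 2) V]
  {ρ : Representation (ZMod 2) (G3 F) V}

theorem fx_fixAll (g : G3 F) : fx ρ g (fixAll ρ) = fixAll ρ := by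
  refine inf_eq_left.2 fun v hv => ?_
  rw [LinearMap.mem_ker, LinearMap.sub_apply, LinearMap.id_apply, sub_eq_zero]
  exact hv g

theorem finrank_fixAll_le (hF : Fintype.card F = 4) (hc : CT ρ) {n5 n7 : ℕ} (hn5 : n5 = 68 ∨ n5 = 48)
    (hn7 : n7 = 80 ∨ n7 = 38) (hd : Dims ρ (⊤ : Submodule (ZMod 2) V) 248 86 n5 n7) :
    finrank (ZMod 2) (fixAll ρ) ≤ 4 := by
  obtain ⟨a, b, c, d, h1, h3, h5, h7⟩ := Cfsg.Agent.H482.LF.PL hF hc (A := fixAll ρ) (B := ⊤)
    (fun g w hw => by rw [hw g]; exact hw) (fun _ _ _ => Submodule.mem_top) le_top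
  obtain ⟨d1, d3, d5, d7⟩ := hd
  obtain ⟨g3, e1, e2⟩ := Cfsg.Agent.H592.L34.exists_three hF
  obtain ⟨g5, e5⟩ := Cfsg.Agent.H592.L34.exists_order hF Nat.prime_five (by norm_num)
  obtain ⟨g7, e7⟩ := Cfsg.Agent.H592.L34.exists_order hF (p := 7) (by norm_num) (by norm_num)
  have k3 := h3 g3 e1 e2
  have k5 := h5 g5 e5
  have k7 := h7 g7 e7
  rw [fx_fixAll, d3 g3 e1 e2] at k3
  rw [fx_fixAll, d5 g5 e5] at k5
  rw [fx_fixAll, d7 g7 e7] at k7
  rw [d1] at h1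
  omega

end Cfsg.Agent.H105.L34
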